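import Mathlib
import Groth.Prelude.Def_CohB1

/-!
# Standard charts of projective space

Helper library (no milestone statements here): evaluation at the fractions `X_i / X_j`.
-/

universe u

open MvPolynomial HomogeneousLocalization

namespace Misc3Bertini

variable (k : Type u) [Field k] (n : ℕ) (j : Fin (n + 1))

local notation "𝒜" => CohB1.polyGrading n k

theorem X_mem (i : Fin (n + 1)) : (X i : MvPolynomial (Fin (n + 1)) k) ∈ 𝒜 1 := isHomogeneous_X k i

/-- The fraction `X_i / X_j`. -/
noncomputable def frac (i : Fin (n + 1)) : Away 𝒜 (X j : MvPolynomial (Fin (n + 1)) k) :=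
  Away.mk 𝒜 (X_mem k n j) 1 (X i) (X_mem k n i)

/-- The base field in the chart. -/
noncomputable def scalar : k →+* Away 𝒜 (X j : MvPolynomial (Fin (n + 1)) k) :=
  (fromZeroRingHom 𝒜 _).comp (algebraMap k (𝒜 0))

/-- Dehomogenization. -/
noncomputable def evalFrac : MvPolynomial (Fin (n + 1)) k →+* Away 𝒜 (X j : MvPolynomial (Fin (n + 1)) k) :=
  eval₂Hom (scalar k n j) (frac k n j)

/-- `val` as a ring map. -/
noncomputable def valHom :
    Away 𝒜 (X j : MvPolynomial (Fin (n + 1)) k) →+* Localization.Away (X j : MvPolynomial (Fin (n + 1)) k) where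
  toFun := val
  map_one' := val_one
  map_mul' x y := val_mul x y
  map_zero' := val_zero
  map_add' x y := val_add x y

theorem val_evalFrac {m : ℕ} {P : MvPolynomial (Fin (n + 1)) k} (hP : P.IsHomogeneous m) :
    valHom k n j (evalFrac k n j P) = algebraMap _ (Localization.Away (X j : MvPolynomial (Fin (n + 1)) k)) P *
      IsLocalization.Away.invSelf (X j : MvPolynomial (Fin (n + 1)) k) ^ m := by
  classical
  set u := IsLocalization.Away.invSelf (S := Localization.Away (X j : MvPolynomial (Fin (n + 1)) k))
    (X j : MvPolynomial (Fin (n + 1)) k) with hu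
  let loc := algebraMap (MvPolynomial (Fin (n + 1)) k) (Localization.Away (X j : MvPolynomial (Fin (n + 1)) k))
  have hfrac : ∀ i, valHom k n j (frac k n j i) = loc (X i) * u := fun i => by
    show Localization.mk (X i) _ = _
    rw [Localization.mk_eq_mk', hu, IsLocalization.Away.invSelf, IsLocalization.mul_mk'_eq_mk'_of_mul, mul_one]
    exact IsLocalization.mk'_eq_of_eq (by simp)
  have hscalar : ∀ c, valHom k n j (scalar k n j c) = loc (C c) := fun c => by
    show Localization.mk (algebraMap k (MvPolynomial (Fin (n + 1)) k) c) _ = _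
    rw [Localization.mk_eq_mk']
    exact IsLocalization.mk'_one _ _
  induction hP using IsWeightedHomogeneous.induction_on with
  | zero => simp
  | add p q _ _ hp hq => rw [map_add, map_add, map_add, hp, hq, add_mul]
  | monomial d c hd =>
    have h1 : valHom k n j (evalFrac k n j (monomial d c)) =
        loc (C c) * ∏ i, (loc (X i) * u) ^ d i := by
      simp only [evalFrac, eval₂Hom_monomial, map_mul, hscalar]
      rw [d.prod_fintype _ (fun i => pow_zero _), map_prod]
      simp only [map_pow, hfrac]
    have h2 : monomial d c = C c * ∏ i, X i ^ d i := by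
      rw [monomial_eq, d.prod_fintype _ (fun i => pow_zero _)]
    rw [h1, h2, map_mul, map_prod]
    simp only [map_pow, mul_pow, Finset.prod_mul_distrib, Finset.prod_pow_eq_pow_sum, loc]
    rw [show ∑ i, d i = m by rw [← hd, Finsupp.weight_apply, d.sum_fintype _ (fun i => by simp)]; simp]
    ring

theorem evalFrac_eq_mk {m : ℕ} {P : MvPolynomial (Fin (n + 1)) k} (hP : P ∈ 𝒜 (m • 1)) :
    evalFrac k n j P = Away.mk 𝒜 (X_mem k n j) m P hP := by
  apply val_injective
  have h := val_evalFrac k n j (m := m) (P := P) (by simpa [CohB1.polyGrading] using hP)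
  rw [show (evalFrac k n j P).val = valHom k n j (evalFrac k n j P) from rfl, h]
  rw [Away.val_mk, Localization.mk_eq_mk', IsLocalization.Away.invSelf]
  rw [← IsLocalization.mk'_pow, IsLocalization.mul_mk'_eq_mk'_of_mul]
  refine IsLocalization.mk'_eq_of_eq ?_
  simp

theorem evalFrac_surjective : Function.Surjective (evalFrac k n j) := by
  intro x
  obtain ⟨m, P, hP, rfl⟩ := Away.mk_surjective 𝒜 (X_mem k n j) x
  exact ⟨P, evalFrac_eq_mk k n j hP⟩

theorem frac_self : frac k n j j = 1 := by
  apply val_injective
  rw [frac, Away.val_mk, val_one]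
  rw [Localization.mk_eq_mk', IsLocalization.mk'_eq_iff_eq_mul]
  simp

/-- A linear form is the combination of the variables with its coefficients. -/
theorem eq_sum_coeff {P : MvPolynomial (Fin (n + 1)) k} (hP : P ∈ 𝒜 1) :
    P = ∑ i, C (coeff (Finsupp.single i 1) P) * X i := by
  classical
  ext d
  simp only [coeff_sum, coeff_C_mul, coeff_X', mul_ite, mul_one, mul_zero]
  by_cases hd : ∃ i, d = Finsupp.single i 1
  · obtain ⟨i, rfl⟩ := hd
    rw [Finset.sum_eq_single i]
    · simp
    · intro b _ hb
      rw [if_neg]
      simpa [Finsupp.single_left_inj] using hb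
    · simp
  · push Not at hd
    rw [Finset.sum_eq_zero fun i _ => if_neg fun h => hd i h.symm]
    by_contra hne
    have hdeg : d.degree = 1 := by
      rw [Finsupp.degree_eq_weight_one, ← Pi.one_def]
      exact hP hne
    obtain ⟨i, hi⟩ : ∃ i, d i ≠ 0 := by
      by_contra h0
      push Not at h0
      simp [show d = 0 from Finsupp.ext (fun a => h0 a)] at hdeg
    refine hd i (Finsupp.ext fun l => ?_)
    rw [Finsupp.degree_eq_sum] at hdeg
    rcases eq_or_ne l i with rfl | hl
    · have := Finset.single_le_sum (fun x _ => Nat.zero_le (d x)) (Finset.mem_univ l)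
      rw [Finsupp.single_eq_same]; omega
    · have := Finset.sum_le_sum_of_subset (f := fun x => d x) (Finset.subset_univ {i, l})
      rw [Finset.sum_pair hl.symm] at this
      rw [Finsupp.single_eq_of_ne hl]; omega

theorem evalFrac_linear {P : MvPolynomial (Fin (n + 1)) k} (hP : P ∈ 𝒜 1) :
    evalFrac k n j P = ∑ i, scalar k n j (coeff (Finsupp.single i 1) P) * frac k n j i := by
  conv_lhs => rw [eq_sum_coeff k n hP]
  simp [evalFrac]

end Misc3Bertini
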