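import Mathlib
import Groth.Agent.Variety2.BertiniJets
import Groth.Agent.Calg4.SmoothRegularField

/-!
# Bertini: the affine statement

Helper library (no milestone statements here). If a finite type algebra over a perfect field with
regular local rings is generated by elements one of which is `1`, then a general linear combination of
the generators cuts out a regular scheme.
-/

universe u

open KaehlerDifferential

namespace Misc3Bertini

variable (k : Type u) [Field k] [PerfectField k] {R : Type u} [CommRing R] [Algebra k R]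

theorem smooth_of_regular [Algebra.FiniteType k R]
    (h : ∀ (p : Ideal R) [p.IsPrime], IsRegularLocalRing (Localization.AtPrime p)) :
    Algebra.Smooth k R := by
  have : Algebra.FinitePresentation k R := Algebra.FinitePresentation.of_finiteType.mp ‹_›
  refine ⟨Algebra.smoothLocus_eq_univ_iff.mp (Set.eq_univ_iff_forall.2 fun p => ?_), ‹_›⟩
  haveI : Algebra.EssFiniteType k p.asIdeal.ResidueField := Algebra.EssFiniteType.comp k R _
  haveI : Algebra.FormallySmooth k p.asIdeal.ResidueField := Algebra.FormallySmooth.of_perfectField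
  haveI := h p.asIdeal
  exact Groth.Calg4.isSmoothAt_of_isRegularLocalRing p.asIdeal

omit [PerfectField k] in
/-- The local rings of a smooth hypersurface, as quotients of the local rings of the ambient ring. -/
theorem regular_quotient [Algebra.FiniteType k R] (g : R) [Algebra.Smooth k (R ⧸ Ideal.span {g})]
    (P : Ideal R) [P.IsPrime] (hg : g ∈ P) (L : Type u) [CommRing L] [Algebra R L]
    [IsLocalization.AtPrime L P] :
    IsRegularLocalRing (L ⧸ Ideal.span {algebraMap R L g}) := by
  let J := Ideal.span {g}
  let Q : Ideal (R ⧸ J) := P.map (Ideal.Quotient.mk J)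
  have hJP : J ≤ P := (Ideal.span_singleton_le_iff_mem P).2 hg
  have hQP : Q.comap (Ideal.Quotient.mk J) = P := by
    rw [Ideal.comap_map_of_surjective _ Ideal.Quotient.mk_surjective, ← RingHom.ker_eq_comap_bot,
      Ideal.mk_ker, sup_eq_left.2 hJP]
  haveI : Q.IsPrime := Ideal.map_isPrime_of_surjective Ideal.Quotient.mk_surjective (by rwa [Ideal.mk_ker])
  have hsub : Algebra.algebraMapSubmonoid (R ⧸ J) P.primeCompl = Q.primeCompl := by
    ext x
    constructor
    · rintro ⟨y, hy, rfl⟩ hyQ
      exact hy (by rw [← hQP]; exact hyQ)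
    · intro hx
      obtain ⟨y, rfl⟩ := Ideal.Quotient.mk_surjective x
      exact ⟨y, fun hy => hx (Ideal.mem_map_of_mem _ hy), rfl⟩
  haveI : IsLocalization Q.primeCompl (L ⧸ J.map (algebraMap R L)) := by
    rw [← hsub]; infer_instance
  haveI : Algebra.IsSmoothAt k Q := Algebra.FormallySmooth.comp k (R ⧸ J) _
  haveI := Groth.Calg4.isRegularLocalRing_of_isSmoothAt (k := k) Q
  have e : Localization.AtPrime Q ≃+* L ⧸ J.map (algebraMap R L) :=
    (IsLocalization.algEquiv Q.primeCompl (Localization.AtPrime Q) (L ⧸ J.map (algebraMap R L))).toRingEquiv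
  exact IsRegularLocalRing.of_ringEquiv (e.trans (Ideal.quotEquivOfEq (by
    show J.map _ = _
    rw [Ideal.map_span, Set.image_singleton])))

/-- Bertini, affine form. -/
theorem exists_good [Algebra.FiniteType k R]
    (h : ∀ (p : Ideal R) [p.IsPrime], IsRegularLocalRing (Localization.AtPrime p))
    {N : ℕ} (a : Fin N → R) (j : Fin N) (hj : a j = 1) (hgen : Algebra.adjoin k (Set.range a) = ⊤) :
    ∃ q : MvPolynomial (Fin N) k, q ≠ 0 ∧ ∀ c : Fin N → k, MvPolynomial.eval c q ≠ 0 →
      ∀ (P : Ideal R) [P.IsPrime], (∑ i, algebraMap k R (c i) * a i) ∈ P →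
      ∀ (L : Type u) [CommRing L] [Algebra R L] [IsLocalization.AtPrime L P],
        IsRegularLocalRing (L ⧸ Ideal.span {algebraMap R L (∑ i, algebraMap k R (c i) * a i)}) := by
  haveI := smooth_of_regular k h
  let Φ : Submodule R (R × Ω[R⁄k]) := Submodule.span R (Set.range fun i => (a i, D k R (a i)))
  have hone : ((1 : R), (0 : Ω[R⁄k])) ∈ Φ :=
    Submodule.subset_span ⟨j, Prod.ext hj (show D k R (a j) = 0 by rw [hj]; exact Derivation.map_one_eq_zero _)⟩
  have hfst : ∀ r : R, (r, (0 : Ω[R⁄k])) ∈ Φ := fun r => by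
    have := Φ.smul_mem r hone
    simpa [Prod.smul_mk] using this
  have hD : ∀ r : R, ((0 : R), D k R r) ∈ Φ := by
    intro r
    have hr : r ∈ Algebra.adjoin k (Set.range a) := hgen ▸ Algebra.mem_top
    induction hr using Algebra.adjoin_induction with
    | mem x hx =>
      obtain ⟨i, rfl⟩ := hx
      have := sub_mem (Submodule.subset_span ⟨i, rfl⟩ : (a i, D k R (a i)) ∈ Φ) (hfst (a i))
      simpa using this
    | algebraMap c => rw [Derivation.map_algebraMap]; exact Φ.zero_mem
    | add x y _ _ hx hy => simpa using add_mem hx hy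
    | mul x y _ _ hx hy =>
      simpa [Derivation.leibniz, Prod.smul_mk] using add_mem (Φ.smul_mem x hy) (Φ.smul_mem y hx)
  have hΦ : Φ = ⊤ := by
    rw [eq_top_iff]
    rintro ⟨r, w⟩ -
    have hw : w ∈ Submodule.span R (Set.range (D k R)) := by
      rw [span_range_derivation]; exact Submodule.mem_top
    have h2 : ((0 : R), w) ∈ Φ :=
      (Submodule.span_le (p := Φ.comap (LinearMap.inr R R Ω[R⁄k]))).2
        (by rintro _ ⟨y, rfl⟩; exact hD y) hw
    simpa using add_mem (hfst r) h2
  obtain ⟨q, hq, hsm⟩ := Groth.Variety2.Bertini.exists_smooth_member_jets k R a 0 hΦ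
  refine ⟨q, hq, fun c hc P _ hP L _ _ _ => ?_⟩
  haveI : Algebra.Smooth k (R ⧸ Ideal.span {∑ i, algebraMap k R (c i) * a i}) := by
    have := hsm c hc
    rwa [zero_add] at this
  exact regular_quotient k _ P hP L

end Misc3Bertini
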